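import Cfsg.Agent.S0324
import Cfsg.Agent.S0333
import Cfsg.Agent.S1163
set_option linter.all false

/-!
# The two descriptions of the Suzuki groups

The stabiliser of the Suzuki–Tits ovoid in `SL₄(q)` is isomorphic to `Cfsg.Lie.Sz` (they are the same matrices).
-/

set_option autoImplicit false
set_option linter.unusedSectionVars false

namespace Cfsg.Agent.OddCyclic.ClaimC.SzIso

open Matrix Cfsg.Agent.LieRecognition.SzMatrix Cfsg.Agent.LieExceptional

variable {F : Type*} [Field F] [Fintype F] {m : ℕ}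

/-- the matrices of the ovoid stabiliser -/
noncomputable def jj (F : Type*) [Field F] (m : ℕ) : ↥(Cfsg.Sz F m) →* GL (Fin 4) F :=
  Matrix.SpecialLinearGroup.toGL.comp (Cfsg.Sz F m).subtype

theorem jj_val (g : ↥(Cfsg.Sz F m)) : (jj F m g).1 = (g : SpecialLinearGroup (Fin 4) F).1 := rfl

theorem jj_injective : Function.Injective (jj F m) := by
  intro g h hgh
  have h1 := congrArg (fun x : GL (Fin 4) F => x.1) hgh
  exact Subtype.ext (Subtype.ext h1)

theorem U_mem_range (hF : Fintype.card F = 2 ^ (2 * m + 1)) (a b : F) : (good hF).U a b ∈ (jj F m).range := by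
  have hg := good hF
  refine ⟨⟨SuzukiBasic.U m a (b + a * theta hF a), SuzukiBasic.U_mem hF _ _⟩, ?_⟩
  apply Units.ext
  rw [jj_val, Good.U_val, Umat_def]
  change ((SuzukiBasic.U m a (b + a * theta hF a) : SpecialLinearGroup (Fin 4) F) : Matrix (Fin 4) (Fin 4) F) = _
  rw [SuzukiBasic.U_coe, SuzukiBasic.zc_def]
  have h2 := hg.two
  have hp : ∀ x : F, x ^ 2 ^ (m + 1) = theta hF x := hg.pow
  have e1 : a ^ (2 ^ (m + 1) + 1) = theta hF a * a := by rw [pow_succ, hp]
  have e2 : a ^ (2 ^ (m + 1) + 2) = theta hF a * a ^ 2 := by rw [pow_add, hp]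
  rw [e1, e2, hp, hp, map_add, map_mul, hg.sq]
  ext i j
  fin_cases i <;> fin_cases j <;> simp
  · linear_combination (a * theta hF a) * h2
  · linear_combination (a ^ 2 * theta hF a) * h2

theorem D_mem_range (hF : Fintype.card F = 2 ^ (2 * m + 1)) (k : Fˣ) : (good hF).D k ∈ (jj F m).range := by
  have hg := good hF
  have hp : ∀ x : F, x ^ 2 ^ (m + 1) = theta hF x := hg.pow
  have hk := k.ne_zero
  have hθ : theta hF (k : F) ≠ 0 := theta_ne_zero _ k
  set t : F := theta hF k * (k : F)⁻¹ with ht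
  have ht0 : t ≠ 0 := mul_ne_zero hθ (inv_ne_zero hk)
  let u : Fˣ := Units.mk0 (theta hF t) (by rw [map_ne_zero]; exact ht0)
  have hu : (u : F) = theta hF t := rfl
  have e1 : (u : F) ^ 2 ^ m = t := by
    rw [hu, ← hp t, ← pow_mul, ← pow_add]
    have : m + 1 + m = 2 * m + 1 := by ring
    rw [this, ← hF]
    exact FiniteField.pow_card t
  have e2 : t * theta hF t = k := by
    rw [ht, map_mul, map_inv₀, hg.sq]
    field_simp
  have e3 : (u : F) ^ (2 ^ m + 1) = k := by rw [pow_succ, e1, hu, e2]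
  refine ⟨⟨SuzukiBasic.H m u, SuzukiBasic.H_mem hF _⟩, ?_⟩
  apply Units.ext
  rw [jj_val, Good.D_val, Dmat_def]
  change ((SuzukiBasic.H m u : SpecialLinearGroup (Fin 4) F) : Matrix (Fin 4) (Fin 4) F) = _
  rw [SuzukiBasic.H_coe]
  have e4 : ((u⁻¹ : Fˣ) : F) ^ 2 ^ m = t⁻¹ := by rw [Units.val_inv_eq_inv_val, inv_pow, e1]
  have e5 : ((u⁻¹ : Fˣ) : F) ^ (2 ^ m + 1) = (k : F)⁻¹ := by rw [Units.val_inv_eq_inv_val, inv_pow, e3]
  rw [e1, e3, e4, e5]
  have e6 : t⁻¹ = k * (theta hF k)⁻¹ := by rw [ht, mul_inv, inv_inv, mul_comm]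
  ext i j
  fin_cases i <;> fin_cases j <;> simp [ht]

theorem W_mem_range (hF : Fintype.card F = 2 ^ (2 * m + 1)) : W F ∈ (jj F m).range := by
  refine ⟨⟨SuzukiBasic.W F, SuzukiBasic.W_mem hF⟩, ?_⟩
  apply Units.ext
  rw [jj_val, W_val]
  rfl

theorem le_range (hF : Fintype.card F = 2 ^ (2 * m + 1)) : Cfsg.Lie.Sz F (2 ^ (m + 1)) ≤ (jj F m).range := by
  intro g hg
  rcases (good hF).bruhat hg with ⟨a, b, k, rfl⟩ | ⟨a, b, c, d, k, rfl⟩
  · exact mul_mem (U_mem_range hF a b) (D_mem_range hF k)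
  · exact mul_mem (mul_mem (U_mem_range hF a b) (W_mem_range hF)) (mul_mem (U_mem_range hF c d) (D_mem_range hF k))

theorem range_eq (hm : 1 ≤ m) (hF : Fintype.card F = 2 ^ (2 * m + 1)) :
    Cfsg.Lie.Sz F (2 ^ (m + 1)) = (jj F m).range := by
  classical
  have hfin : Finite (jj F m).range := Set.finite_range (jj F m) |>.to_subtype
  apply Subgroup.eq_of_le_of_card_ge (le_range hF)
  have h1 : Nat.card (jj F m).range = Nat.card ↥(Cfsg.Sz F m) :=
    Nat.card_congr (MonoidHom.ofInjective jj_injective).toEquiv.symm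
  rw [h1, Cfsg.Agent.S0324.result hm hF, (Cfsg.Agent.S1163.result hm hF).1]
  exact le_of_eq (by ring)

/-- **the isomorphism** -/
theorem iso (hm : 1 ≤ m) (hF : Fintype.card F = 2 ^ (2 * m + 1)) :
    Nonempty (↥(Cfsg.Sz F m) ≃* ↥(Cfsg.Lie.Sz F (2 ^ (m + 1)))) :=
  ⟨(MonoidHom.ofInjective jj_injective).trans (MulEquiv.subgroupCongr (range_eq hm hF).symm)⟩

end Cfsg.Agent.OddCyclic.ClaimC.SzIso
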